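import Mathlib.LinearAlgebra.Matrix.Symmetric
import Mathlib.LinearAlgebra.Matrix.ToLin
import Mathlib.Algebra.BigOperators.Ring.Finset
import Mathlib.Data.Real.Basic
import Mathlib.Tactic.Ring
import Mathlib.Tactic.Linarith

open Finset

namespace Groth.Agent.Num91

theorem quad_identity {ι R : Type*} [Fintype ι] [CommRing R] (A : Matrix ι ι R) (hA : A.IsSymm)
    (m y : ι → R) :
    2 * dotProduct (fun i => m i * y i) (A.mulVec fun i => m i * y i) =
      2 * ∑ i, A.mulVec m i * m i * y i ^ 2 - ∑ i, ∑ j, A i j * m i * m j * (y i - y j) ^ 2 := by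
  have h1 : ∀ i j, A j i = A i j := fun i j => hA.apply i j
  have e1 : ∑ i, A.mulVec m i * m i * y i ^ 2 = ∑ i, ∑ j, A i j * m i * m j * y i ^ 2 := by
    refine Finset.sum_congr rfl fun i _ => ?_
    simp only [Matrix.mulVec, dotProduct, Finset.sum_mul]
    exact Finset.sum_congr rfl fun j _ => by ring
  have e2 : ∑ i, ∑ j, A i j * m i * m j * y j ^ 2 = ∑ i, ∑ j, A i j * m i * m j * y i ^ 2 := by
    rw [Finset.sum_comm]
    refine Finset.sum_congr rfl fun i _ => Finset.sum_congr rfl fun j _ => ?_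
    rw [h1]; ring
  have e3 : dotProduct (fun i => m i * y i) (A.mulVec fun i => m i * y i) =
      ∑ i, ∑ j, A i j * m i * m j * (y i * y j) := by
    simp only [Matrix.mulVec, dotProduct, Finset.mul_sum]
    exact Finset.sum_congr rfl fun i _ => Finset.sum_congr rfl fun j _ => by ring
  have e4 : ∑ i, ∑ j, A i j * m i * m j * (y i - y j) ^ 2 =
      (∑ i, ∑ j, A i j * m i * m j * y i ^ 2) + (∑ i, ∑ j, A i j * m i * m j * y j ^ 2)
        - 2 * ∑ i, ∑ j, A i j * m i * m j * (y i * y j) := by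
    simp only [Finset.mul_sum, ← Finset.sum_add_distrib, ← Finset.sum_sub_distrib]
    exact Finset.sum_congr rfl fun i _ => Finset.sum_congr rfl fun j _ => by ring
  rw [e4, e2, e1, e3]; ring

theorem mulVec_eq_diag_add {n : ℕ} (A : Matrix (Fin n) (Fin n) ℝ) (m : Fin n → ℝ) (i : Fin n) :
    A.mulVec m i = A i i * m i + ∑ j ∈ univ.erase i, A i j * m j := by
  simp only [Matrix.mulVec, dotProduct]
  exact (Finset.add_sum_erase _ _ (Finset.mem_univ i)).symm

/-- The vanishing locus of the quadratic form. -/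
theorem quad_zero_iff_aux {n : ℕ} (A : Matrix (Fin n) (Fin n) ℝ) (hsymm : A.IsSymm)
    (hA : ∀ i j, i ≠ j → 0 ≤ A i j) (m : Fin n → ℝ) (hm : ∀ i, 0 < m i)
    (hle : ∀ i, A.mulVec m i ≤ 0) (y : Fin n → ℝ) :
    dotProduct (fun i => m i * y i) (A.mulVec fun i => m i * y i) ≤ 0 ∧
      (dotProduct (fun i => m i * y i) (A.mulVec fun i => m i * y i) = 0 →
        (∀ i, y i ≠ 0 → A.mulVec m i = 0) ∧ (∀ i j, A i j ≠ 0 → y i = y j)) := by
  have key := quad_identity A hsymm m y
  have p1 : ∀ i, A.mulVec m i * m i * y i ^ 2 ≤ 0 := fun i =>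
    mul_nonpos_iff.2 (Or.inr ⟨mul_nonpos_iff.2 (Or.inr ⟨hle i, (hm i).le⟩), sq_nonneg _⟩)
  have p2 : ∀ i j, 0 ≤ A i j * m i * m j * (y i - y j) ^ 2 := by
    intro i j
    by_cases h : i = j
    · subst h; simp
    · exact mul_nonneg (mul_nonneg (mul_nonneg (hA i j h) (hm i).le) (hm j).le) (sq_nonneg _)
  have s1 : ∑ i, A.mulVec m i * m i * y i ^ 2 ≤ 0 := Finset.sum_nonpos fun i _ => p1 i
  have s2 : 0 ≤ ∑ i, ∑ j, A i j * m i * m j * (y i - y j) ^ 2 :=
    Finset.sum_nonneg fun i _ => Finset.sum_nonneg fun j _ => p2 i j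
  refine ⟨by linarith, fun h0 => ?_⟩
  have t1 : ∑ i, A.mulVec m i * m i * y i ^ 2 = 0 := by linarith
  have t2 : ∑ i, ∑ j, A i j * m i * m j * (y i - y j) ^ 2 = 0 := by linarith
  constructor
  · intro i hy
    have := (Finset.sum_eq_zero_iff_of_nonpos fun i _ => p1 i).1 t1 i (Finset.mem_univ i)
    simpa [(hm i).ne', hy] using this
  · intro i j hij
    have := (Finset.sum_eq_zero_iff_of_nonneg fun j _ => p2 i j).1
      ((Finset.sum_eq_zero_iff_of_nonneg fun i _ => Finset.sum_nonneg fun j _ => p2 i j).1 t2 i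
        (Finset.mem_univ i)) j (Finset.mem_univ j)
    simpa [(hm i).ne', (hm j).ne', hij, sub_eq_zero] using this

end Groth.Agent.Num91
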